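import Mathlib
import Cfsg.Agent.Lib.SpinorNorm
import Cfsg.Agent.Lib.OmegaMem

/-! The spinor character of a norm-one torus acting on an orthogonal summand. -/

set_option autoImplicit false
set_option maxHeartbeats 800000

namespace CfsgLib.OddSpectra

open QuadraticMap CfsgLib.WittExtension CfsgLib.SpinorNorm Module

variable {F V : Type*} [Field F] [AddCommGroup V] [Module F V] (Q : QuadraticForm F V)

/-- The product of reflections in pairwise orthogonal vectors. -/
theorem refl_prod_apply : ∀ (n : ℕ) (v : Fin n → V) (hv : ∀ i, Q (v i) ≠ 0)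
    (_ : ∀ i j, i ≠ j → polar Q (v i) (v j) = 0) (x : V),
    (List.ofFn fun i => refl Q (hv i)).prod.1 x = x + ∑ i, (-((Q (v i))⁻¹ * polar Q (v i) x)) • v i := by
  intro n
  induction n with
  | zero => intro v hv _ x; simp
  | succ n ih =>
    intro v hv ho x
    rw [List.ofFn_succ, List.prod_cons, Fin.sum_univ_succ]
    show (refl Q (hv 0)).1 ((List.ofFn fun i : Fin n => refl Q (hv i.succ)).prod.1 x) = _
    rw [ih (fun i => v i.succ) (fun i => hv i.succ) (fun i j h => ho _ _ (by simpa using h)) x, refl_apply]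
    have h0 : polar Q (v 0) (x + ∑ i : Fin n, (-((Q (v i.succ))⁻¹ * polar Q (v i.succ) x)) • v i.succ) =
        polar Q (v 0) x := by
      rw [← polarBilin_apply_apply, map_add, map_sum, Finset.sum_eq_zero (fun i _ => ?_), add_zero,
        polarBilin_apply_apply]
      rw [map_smul, polarBilin_apply_apply, ho 0 i.succ (Fin.succ_ne_zero i).symm, smul_zero]
    rw [h0]
    abel

/-- An isometry negating orthogonal vectors and fixing their orthogonal complement. -/
theorem eq_refl_prod (h2 : (2 : F) ≠ 0) {n : ℕ} (v : Fin n → V) (hv : ∀ i, Q (v i) ≠ 0)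
    (ho : ∀ i j, i ≠ j → polar Q (v i) (v j) = 0) (R : quadIso Q) (hneg : ∀ i, R.1 (v i) = -v i)
    (hfix : ∀ x, (∀ i, polar Q (v i) x = 0) → R.1 x = x) :
    R = (List.ofFn fun i => refl Q (hv i)).prod := by
  refine Subtype.ext (LinearEquiv.ext fun x => ?_)
  rw [refl_prod_apply Q n v hv ho x]
  set w : V := ∑ i, ((2 * Q (v i))⁻¹ * polar Q (v i) x) • v i with hw
  have hperp : R.1 (x - w) = x - w := by
    refine hfix _ fun i => ?_
    rw [← polarBilin_apply_apply, map_sub, hw, map_sum, Finset.sum_eq_single i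
      (fun j _ hj => by rw [map_smul, polarBilin_apply_apply, ho i j hj.symm, smul_zero]) (by simp),
      map_smul, polarBilin_apply_apply, polarBilin_apply_apply, ReflectionGen.pol_self, smul_eq_mul]
    have h2v : 2 * Q (v i) ≠ 0 := mul_ne_zero h2 (hv i)
    linear_combination (-(polar Q (v i) x)) * (mul_inv_cancel₀ h2v)
  have hRw : R.1 w = -w := by
    rw [hw, map_sum, ← Finset.sum_neg_distrib]
    exact Finset.sum_congr rfl fun i _ => by rw [map_smul, hneg, smul_neg]
  have : R.1 x = (x - w) + -w := by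
    rw [← hperp, ← hRw, ← map_add, sub_add_cancel]
  rw [this, show x - w + -w = x + -(w + w) by abel, hw, ← Finset.sum_add_distrib, ← Finset.sum_neg_distrib]
  congr 1
  refine Finset.sum_congr rfl fun i _ => ?_
  rw [← add_smul, ← neg_smul]
  congr 1
  have h2v : 2 * Q (v i) ≠ 0 := mul_ne_zero h2 (hv i)
  field_simp
  ring

variable [Fintype F] [DecidableEq F] [Fintype V] [DecidableEq V]

/-- The sign character of such an isometry. -/
theorem levelSign_negation (h2 : (2 : F) ≠ 0) {n : ℕ} (v : Fin n → V) (hv : ∀ i, Q (v i) ≠ 0)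
    (ho : ∀ i j, i ≠ j → polar Q (v i) (v j) = 0) (R : quadIso Q) (hneg : ∀ i, R.1 (v i) = -v i)
    (hfix : ∀ x, (∀ i, polar Q (v i) x = 0) → R.1 x = x) :
    levelSign Q 1 R = (-1) ^ n * (if IsSquare (∏ i, Q (v i)) then 1 else -1) := by
  classical
  rw [eq_refl_prod Q h2 v hv ho R hneg hfix]
  clear hfix hneg R ho
  induction n with
  | zero => simp
  | succ n ih =>
    rw [List.ofFn_succ, List.prod_cons, map_mul, levelSign_refl Q h2 (hv 0) one_ne_zero, one_mul,
      ih (fun i => v i.succ) (fun i => hv i.succ), Fin.prod_univ_succ, pow_succ']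
    have hp : ∏ i : Fin n, Q (v i.succ) ≠ 0 := Finset.prod_ne_zero_iff.2 fun i _ => hv i.succ
    simp only [CfsgLib.OmegaMem.isSquare_mul_iff h2 (hv 0) hp]
    by_cases h1 : IsSquare (Q (v 0)) <;> by_cases h3 : IsSquare (∏ i : Fin n, Q (v i.succ)) <;>
      simp [h1, h3]

section Torus

variable {A L : Type*} [AddCommGroup A] [Module F A] [Field L] [Finite L] [Algebra F L]

/-- The form on the second summand. -/
abbrev formR (Φ : (A × L) ≃ₗ[F] V) : QuadraticForm F L := Q.comp (Φ.toLinearMap.comp (LinearMap.inr F A L))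

/-- Isometries of a summand extended by the identity. -/
def ext (Φ : (A × L) ≃ₗ[F] V) (hs : ∀ k a, Q (Φ (k, a)) = Q (Φ (k, 0)) + Q (Φ (0, a))) :
    quadIso (formR Q Φ) →* quadIso Q where
  toFun g := ⟨Φ.symm ≪≫ₗ ((LinearEquiv.refl F A).prodCongr g.1) ≪≫ₗ Φ, fun x => by
    obtain ⟨⟨k, a⟩, rfl⟩ := Φ.surjective x
    simp only [LinearEquiv.trans_apply, LinearEquiv.symm_apply_apply, LinearEquiv.prodCongr_apply,
      LinearEquiv.refl_apply]
    rw [hs, hs k a]
    congr 1
    exact g.2 a⟩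
  map_one' := Subtype.ext (LinearEquiv.ext fun x => by
    obtain ⟨⟨k, a⟩, rfl⟩ := Φ.surjective x
    simp)
  map_mul' g h := Subtype.ext (LinearEquiv.ext fun x => by
    obtain ⟨⟨k, a⟩, rfl⟩ := Φ.surjective x
    simp)

omit [Fintype F] [DecidableEq F] [Fintype V] [DecidableEq V] [Finite L] in
theorem ext_apply (Φ : (A × L) ≃ₗ[F] V) (hs : ∀ k a, Q (Φ (k, a)) = Q (Φ (k, 0)) + Q (Φ (0, a)))
    (g : quadIso (formR Q Φ)) (k : A) (a : L) : (ext Q Φ hs g).1 (Φ (k, a)) = Φ (k, g.1 a) := by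
  simp [ext]

/-- A generator of the norm-one torus has non-trivial sign. -/
theorem torus_sign_ne (h2 : (2 : F) ≠ 0) (hQ : (polarBilin Q).Nondegenerate) (Φ : (A × L) ≃ₗ[F] V)
    (hs : ∀ k a, Q (Φ (k, a)) = Q (Φ (k, 0)) + Q (Φ (0, a))) (σ : L →ₐ[F] L) (hσσ : ∀ a, σ (σ a) = a)
    (hσ : ∃ a, σ a ≠ a) (hz : ∀ c : L, σ c = c → ∃ z, z * σ z = c)
    (hadj : ∀ c a b : L, polar (formR Q Φ) (c * a) b = polar (formR Q Φ) a (σ c * b))
    (G : quadIso Q) (e : L) (hG : ∀ k a, G.1 (Φ (k, a)) = Φ (k, e * a))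
    (hgen : ∀ e' : L, e' * σ e' = 1 → ∃ j : ℕ, e ^ j = e') :
    levelSign Q 1 G ≠ 1 := by
  classical
  intro hG1
  haveI : Invertible (2 : F) := invertibleOfNonzero h2
  set QL := formR Q Φ with hQL
  have hσinj : Function.Injective σ := σ.toRingHom.injective
  -- the form on the summand
  have hps : ∀ k a l b, polar Q (Φ (k, a)) (Φ (l, b)) =
      polar Q (Φ (k, 0)) (Φ (l, 0)) + polar QL a b := fun k a l b => by
    have e1 : ∀ a b : L, QL (a + b) = Q (Φ (0, a + b)) ∧ QL a = Q (Φ (0, a)) := fun a b => ⟨rfl, rfl⟩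
    simp only [polar, ← map_add, Prod.mk_add_mk]
    rw [hs (k + l) (a + b), hs k a, hs l b, (e1 a b).1, (e1 a b).2, (e1 b a).2, add_zero]
    ring
  have hL : ∀ a, (∀ b, polar QL a b = 0) → a = 0 := fun a ha => by
    have h0 : Φ ((0 : A), a) = 0 := hQ.1 _ fun y => by
      obtain ⟨⟨l, b⟩, rfl⟩ := Φ.surjective y
      rw [polarBilin_apply_apply, hps, ha, add_zero]
      rw [show Φ ((0 : A), (0 : L)) = 0 from map_zero Φ, polar_zero_left]
    exact (Prod.ext_iff.1 (Φ.map_eq_zero_iff.1 h0)).2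
  have hrev : ∀ c a b : L, polar QL a (c * b) = polar QL (σ c * a) b := fun c a b => by
    rw [hadj, hσσ]
  have hlam : ∀ a b, polar QL a b = polar QL 1 (σ a * b) := fun a b => by rw [← hadj, mul_one]
  have hlamσ : ∀ y, polar QL 1 (σ y) = polar QL 1 y := fun y => by
    rw [polar_comm QL 1 y, hlam y 1, mul_one]
  have hσpol : ∀ a b, polar QL (σ a) (σ b) = polar QL a b := fun a b => by
    rw [hlam, hlam a b, hσσ, ← hlamσ (σ a * b), map_mul, hσσ]
  have hQsq : ∀ x, QL x = polar QL x x / 2 := fun x => by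
    rw [ReflectionGen.pol_self]; field_simp
  -- the negated subspace
  set M : Submodule F L := LinearMap.ker (σ.toLinearMap + LinearMap.id) with hMd
  have hM : ∀ a, a ∈ M ↔ σ a = -a := fun a => by
    rw [hMd, LinearMap.mem_ker, LinearMap.add_apply, AlgHom.toLinearMap_apply, LinearMap.id_apply,
      add_eq_zero_iff_eq_neg]
  have h2L : (2 : L) ≠ 0 := fun h => h2 ((algebraMap F L).injective (by rw [map_ofNat, h, map_zero]))
  have hperp : ∀ a ∈ M, ∀ b, σ b = b → polar QL a b = 0 := fun a ha b hb => by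
    have h1 : polar QL a b = -polar QL 1 (a * b) := by
      rw [hlam, (hM a).1 ha, neg_mul, polar_neg_right]
    have h2' : polar QL a b = polar QL 1 (a * b) := by
      rw [hlam, ← hlamσ (σ a * b), map_mul, hσσ, hb]
    have : (2 : F) * polar QL 1 (a * b) = 0 := by linear_combination h1 - h2'
    rw [h2', (mul_eq_zero.1 this).resolve_left h2]
  have hdec : ∀ a : L, ∃ u v, σ u = u ∧ v ∈ M ∧ a = u + v := fun a => by
    refine ⟨(a + σ a) / 2, (a - σ a) / 2, ?_, (hM _).2 ?_, by field_simp; ring⟩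
    · rw [map_div₀, map_add, hσσ, map_ofNat, add_comm]
    · rw [map_div₀, map_sub, hσσ, map_ofNat, ← neg_div, neg_sub]
  have hMnd : ∀ a ∈ M, (∀ b ∈ M, polar QL a b = 0) → a = 0 := fun a ha h => hL a fun b => by
    obtain ⟨u, v, hu, hv, rfl⟩ := hdec b
    rw [polar_add_right, hperp a ha u hu, h v hv, add_zero]
  -- the element of the fixed field with non-square norm
  obtain ⟨a0, ha0⟩ := hσ
  set ω : L := a0 - σ a0 with hωd
  have hω0 : ω ≠ 0 := sub_ne_zero.2 (Ne.symm ha0)
  have hω : σ ω = -ω := by rw [hωd, map_sub, hσσ, neg_sub]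
  let L0 : IntermediateField F L := (AlgHom.equalizer σ (AlgHom.id F L)).toIntermediateField fun x hx => by
    rw [AlgHom.mem_equalizer] at hx ⊢
    rw [map_inv₀, hx]
    rfl
  have hL0 : ∀ x, x ∈ L0 ↔ σ x = x := fun x => AlgHom.mem_equalizer _ _ _
  haveI : Finite L0 := Finite.of_injective _ Subtype.val_injective
  obtain ⟨α, hα⟩ := FiniteField.exists_nonsquare (F := F) (fun h => h2 (by
    haveI := ringChar.of_eq h; exact CharTwo.two_eq_zero))
  obtain ⟨c0, hc0⟩ := FiniteField.norm_surjective F L0 α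
  set c : L := (c0 : L) with hc
  have hcσ : σ c = c := (hL0 _).1 c0.2
  have hαne : α ≠ 0 := fun h => hα (h ▸ IsSquare.zero)
  have hcne : c ≠ 0 := fun h => hαne (by rw [← hc0, show c0 = 0 from Subtype.ext h, Algebra.norm_zero])
  obtain ⟨z, hzc⟩ := hz c hcσ
  have hzne : z ≠ 0 := fun h => hcne (by rw [← hzc, h, zero_mul])
  let C : M →ₗ[F] M := ((LinearMap.mulLeft F c).restrict fun a ha => by
    rw [hM] at ha ⊢
    rw [LinearMap.mulLeft_apply, map_mul, hcσ, ha, mul_neg])
  have hCval : ∀ a : M, (C a : L) = c * a := fun a => rfl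
  let ψ : L0 ≃ₗ[F] M :=
    { toFun := fun x => ⟨ω * x, (hM _).2 (by rw [map_mul, hω, (hL0 _).1 x.2, neg_mul])⟩
      map_add' := fun x y => Subtype.ext (mul_add ω (x : L) (y : L))
      map_smul' := fun r x => Subtype.ext (by
        show ω * ((r • x : L0) : L) = r • (ω * (x : L))
        rw [← Algebra.mul_smul_comm]; rfl)
      invFun := fun a => ⟨ω⁻¹ * a, (hL0 _).2 (by rw [map_mul, map_inv₀, hω, (hM _).1 a.2, inv_neg, neg_mul_neg])⟩
      left_inv := fun x => Subtype.ext (inv_mul_cancel_left₀ hω0 _)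
      right_inv := fun a => Subtype.ext (mul_inv_cancel_left₀ hω0 _) }
  have hdet : LinearMap.det C = α := by
    rw [← hc0, Algebra.norm_apply, ← LinearMap.det_conj (Algebra.lmul F L0 c0) ψ]
    congr 1
    refine LinearMap.ext fun a => Subtype.ext ?_
    show c * (a : L) = ω * ((c0 : L) * (ω⁻¹ * (a : L)))
    field_simp
    rw [mul_comm, hc]
  -- the two Gram forms
  let B1 : LinearMap.BilinForm F M := (polarBilin QL).compl₁₂ M.subtype M.subtype
  have hB1 : ∀ a b : M, B1 a b = polar QL (a : L) b := fun a b => rfl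
  let B2 : LinearMap.BilinForm F M := B1.compl₁₂ C LinearMap.id
  have hB2 : ∀ a b : M, B2 a b = polar QL (z * a) (z * b) := fun a b => by
    show polar QL (c * a) b = _
    rw [hrev z (z * (a : L)) b, ← mul_assoc, mul_comm (σ z) z, hzc]
  obtain ⟨b1, hb1⟩ := LinearMap.BilinForm.exists_orthogonal_basis (B := B1)
    ⟨fun a b => by simp only [RingHom.id_apply, hB1]; exact polar_comm QL _ _⟩
  obtain ⟨b2, hb2⟩ := LinearMap.BilinForm.exists_orthogonal_basis (B := B2)
    ⟨fun a b => by simp only [RingHom.id_apply, hB2]; exact polar_comm QL _ _⟩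
  have ho1 : ∀ i j, i ≠ j → polar QL (b1 i : L) (b1 j) = 0 := fun i j h => hb1 h
  have ho2 : ∀ i j, i ≠ j → polar QL (z * b2 i) (z * b2 j) = 0 := fun i j h => (hB2 _ _).symm.trans (hb2 h)
  have hn1 : ∀ i, polar QL (b1 i : L) (b1 i) ≠ 0 := fun i hi => b1.ne_zero i <| Subtype.ext <|
    hMnd _ (b1 i).2 fun b hb => by
      have : B1 (b1 i) = 0 := b1.ext fun j => by
        rcases eq_or_ne i j with rfl | hij
        · exact hi
        · exact hb1 hij
      exact LinearMap.congr_fun this ⟨b, hb⟩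
  have hn2 : ∀ i, polar QL (z * b2 i) (z * b2 i) ≠ 0 := fun i hi => by
    have h0 : B2 (b2 i) = 0 := b2.ext fun j => by
      rcases eq_or_ne i j with rfl | hij
      · rw [hB2]; exact hi
      · exact hb2 hij
    have h1 : c * (b2 i : L) = 0 := hMnd _ (C (b2 i)).2 fun b hb => LinearMap.congr_fun h0 ⟨b, hb⟩
    exact b2.ne_zero i (Subtype.ext ((mul_eq_zero.1 h1).resolve_left hcne))
  set P1 := ∏ i, polar QL (b1 i : L) (b1 i) with hP1
  set P2 := ∏ i, polar QL (z * b2 i) (z * b2 i) with hP2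
  set T := (LinearMap.toMatrix b2 b1 LinearMap.id).det with hT
  have hgram : P2 = α * (T * T) * P1 := by
    have hd1 : LinearMap.toMatrix₂ b1 b1 B1 = Matrix.diagonal fun i => polar QL (b1 i : L) (b1 i) := by
      ext i j
      rw [LinearMap.toMatrix₂_apply]
      rcases eq_or_ne i j with rfl | h
      · rw [Matrix.diagonal_apply_eq, hB1]
      · rw [Matrix.diagonal_apply_ne _ h]; exact hb1 h
    have hd2 : LinearMap.toMatrix₂ b2 b2 B2 = Matrix.diagonal fun i => polar QL (z * b2 i) (z * b2 i) := by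
      ext i j
      rw [LinearMap.toMatrix₂_apply]
      rcases eq_or_ne i j with rfl | h
      · rw [Matrix.diagonal_apply_eq, hB2]
      · rw [Matrix.diagonal_apply_ne _ h]; exact hb2 h
    have h3 := congrArg Matrix.det (LinearMap.toMatrix₂_compl₁₂ b1 b1 b2 b2 B1 C LinearMap.id)
    rw [Matrix.det_mul, Matrix.det_mul, Matrix.det_transpose, show B1.compl₁₂ C LinearMap.id = B2 from rfl,
      hd1, hd2, Matrix.det_diagonal, Matrix.det_diagonal] at h3
    have h4 : (LinearMap.toMatrix b2 b1 C).det = α * T := by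
      rw [show C = C.comp LinearMap.id from (LinearMap.comp_id C).symm, LinearMap.toMatrix_comp b2 b1 b1,
        Matrix.det_mul, LinearMap.det_toMatrix, hdet, hT]
    rw [hP2, h3, h4, hP1, hT]
    ring
  have hP1ne : P1 ≠ 0 := Finset.prod_ne_zero_iff.2 fun i _ => hn1 i
  have hP2ne : P2 ≠ 0 := Finset.prod_ne_zero_iff.2 fun i _ => hn2 i
  have hTne : T ≠ 0 := fun h => hP2ne (by rw [hgram, h]; ring)
  -- the two involutions
  let mkρ : ∀ w : L, w ≠ 0 → σ (w * σ w) = w * σ w → quadIso QL := fun w hw hw' =>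
    ⟨{ toFun := fun a => w * σ (w⁻¹ * a)
       map_add' := fun a b => by rw [mul_add, map_add, mul_add]
       map_smul' := fun r a => by
        rw [RingHom.id_apply, Algebra.mul_smul_comm, map_smul, Algebra.mul_smul_comm]
       invFun := fun a => w * σ (w⁻¹ * a)
       left_inv := fun a => by simp [inv_mul_cancel_left₀ hw, mul_inv_cancel_left₀ hw, hσσ]
       right_inv := fun a => by simp [inv_mul_cancel_left₀ hw, mul_inv_cancel_left₀ hw, hσσ] },
      fun a => by
        show QL (w * σ (w⁻¹ * a)) = QL a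
        rw [hQsq, hQsq]
        congr 1
        obtain ⟨x, rfl⟩ : ∃ x, a = w * x := ⟨w⁻¹ * a, (mul_inv_cancel_left₀ hw a).symm⟩
        rw [inv_mul_cancel_left₀ hw]
        have hadj' : ∀ x y : L, polar QL (w * x) (w * y) = polar QL (w * σ w * x) y := fun x y => by
          rw [hrev w (w * x) y, ← mul_assoc, mul_comm (σ w) w]
        rw [hadj', hadj', ← hσpol (w * σ w * σ x) (σ x), map_mul σ (w * σ w), hw', hσσ]⟩
  have key : ∀ (w : L) (hw : w ≠ 0) (hw' : σ (w * σ w) = w * σ w) (n : ℕ) (b : Basis (Fin n) F M),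
      (∀ i j, i ≠ j → polar QL (w * b i) (w * b j) = 0) → (∀ i, polar QL (w * b i) (w * b i) ≠ 0) →
      levelSign Q 1 (ext Q Φ hs (mkρ w hw hw')) =
        (-1) ^ n * (if IsSquare (∏ i, polar QL (w * b i) (w * b i) / 2) then 1 else -1) := by
    intro w hw hw' n b hbo hbn
    have hQv : ∀ i, Q (Φ ((0 : A), w * (b i : L))) = polar QL (w * b i) (w * b i) / 2 := fun i => hQsq _
    rw [levelSign_negation Q h2 (fun i => Φ ((0 : A), w * (b i : L)))
      (fun i => by rw [hQv]; exact div_ne_zero (hbn i) h2)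
      (fun i j h => by rw [hps, show Φ ((0 : A), (0 : L)) = 0 from map_zero Φ, polar_zero_left, zero_add]; exact hbo i j h)
      _ (fun i => ?_) (fun x hx => ?_)]
    · simp only [hQv]
    · rw [ext_apply, ← map_neg, Prod.neg_mk, neg_zero]
      congr 2
      show w * σ (w⁻¹ * (w * (b i : L))) = -(w * (b i : L))
      rw [inv_mul_cancel_left₀ hw, (hM _).1 (b i).2, mul_neg]
    · obtain ⟨⟨k, a⟩, rfl⟩ := Φ.surjective x
      rw [ext_apply]
      congr 2
      show w * σ (w⁻¹ * a) = a
      obtain ⟨u, v, hu, hv, huv⟩ := hdec (w⁻¹ * a)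
      obtain rfl : a = w * (u + v) := by rw [← huv, mul_inv_cancel_left₀ hw]
      rw [inv_mul_cancel_left₀ hw]
      suffices v = 0 by rw [this, add_zero, hu]
      have hcw : w * σ w ≠ 0 := mul_ne_zero hw fun h => hw (hσinj (h.trans (map_zero σ).symm))
      let f : M →ₗ[F] F := ((polarBilin QL).flip (w * (u + v))).comp ((LinearMap.mulLeft F w).comp M.subtype)
      have hf : f = 0 := b.ext fun i => by
        have := hx i
        rw [hps, show Φ ((0 : A), (0 : L)) = 0 from map_zero Φ, polar_zero_left, zero_add] at this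
        exact this
      refine hMnd v hv fun m hm => ?_
      have hm' : (w * σ w)⁻¹ * m ∈ M := (hM _).2 (by rw [map_mul, map_inv₀, hw', (hM _).1 hm, mul_neg])
      have h1 : polar QL (w * ((w * σ w)⁻¹ * m)) (w * (u + v)) = 0 := LinearMap.congr_fun hf ⟨_, hm'⟩
      rw [hrev w (w * _), ← mul_assoc, mul_comm (σ w) w, mul_inv_cancel_left₀ hcw, polar_add_right,
        hperp m hm u hu, zero_add, polar_comm] at h1
      exact h1
  have hz' : σ (z * σ z) = z * σ z := by rw [hzc, hcσ]
  have h1' : σ ((1 : L) * σ 1) = 1 * σ 1 := by simp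
  have k1 := key 1 one_ne_zero h1' _ b1 (by simpa only [one_mul] using ho1) (by simpa only [one_mul] using hn1)
  have k2 := key z hzne hz' _ b2 ho2 hn2
  simp only [one_mul] at k1
  have hprod : levelSign Q 1 (ext Q Φ hs (mkρ z hzne hz') * ext Q Φ hs (mkρ 1 one_ne_zero h1')) = -1 := by
    rw [map_mul, k1, k2, mul_mul_mul_comm, ← pow_add, ← two_mul, pow_mul, neg_one_sq, one_pow, one_mul]
    set N1 := ∏ i, polar QL (b1 i : L) (b1 i) / 2 with hN1
    set N2 := ∏ i, polar QL (z * b2 i) (z * b2 i) / 2 with hN2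
    have hN1ne : N1 ≠ 0 := Finset.prod_ne_zero_iff.2 fun i _ => div_ne_zero (hn1 i) h2
    have hN2ne : N2 ≠ 0 := Finset.prod_ne_zero_iff.2 fun i _ => div_ne_zero (hn2 i) h2
    have hsq : ¬ IsSquare (N2 * N1) := by
      rintro ⟨s, hs'⟩
      apply hα
      have e1 : N2 * N1 = α * (T * P1 / 2 ^ finrank F M) ^ 2 := by
        rw [hN1, hN2, Finset.prod_div_distrib, Finset.prod_div_distrib, Finset.prod_const, Finset.card_univ,
          Fintype.card_fin, ← hP1, ← hP2, hgram]
        ring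
      have hne : T * P1 / 2 ^ finrank F M ≠ 0 := div_ne_zero (mul_ne_zero hTne hP1ne) (pow_ne_zero _ h2)
      refine ⟨s / (T * P1 / 2 ^ finrank F M), ?_⟩
      rw [div_mul_div_comm, ← hs', e1, eq_div_iff (mul_ne_zero hne hne)]
      ring
    rw [CfsgLib.OmegaMem.isSquare_mul_iff h2 hN2ne hN1ne] at hsq
    by_cases a1 : IsSquare N1
    · rw [if_pos a1, mul_one, if_neg fun a2 => hsq (iff_of_true a2 a1)]
    · rw [if_neg a1]
      by_cases a2 : IsSquare N2
      · rw [if_pos a2, one_mul]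
      · exact absurd (iff_of_false a2 a1) hsq
  obtain ⟨j, hj⟩ := hgen (z / σ z) (by
    have hσz : σ z ≠ 0 := fun h => hzne (hσinj (h.trans (map_zero σ).symm))
    rw [map_div₀, hσσ]; field_simp)
  have hGj : ∀ (i : ℕ) k a, (G ^ i).1 (Φ (k, a)) = Φ (k, e ^ i * a) := by
    intro i
    induction i with
    | zero => intro k a; simp
    | succ i ih =>
      intro k a
      rw [pow_succ']
      show G.1 ((G ^ i).1 (Φ (k, a))) = _
      rw [ih, hG, pow_succ', mul_assoc]
  have heq : G ^ j = ext Q Φ hs (mkρ z hzne hz') * ext Q Φ hs (mkρ 1 one_ne_zero h1') := by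
    refine Subtype.ext (LinearEquiv.ext fun x => ?_)
    obtain ⟨⟨k, a⟩, rfl⟩ := Φ.surjective x
    rw [hGj, hj]
    show _ = (ext Q Φ hs _).1 ((ext Q Φ hs _).1 (Φ (k, a)))
    rw [ext_apply, ext_apply]
    congr 2
    show z / σ z * a = z * σ (z⁻¹ * (1 * σ (1⁻¹ * a)))
    rw [inv_one, one_mul, one_mul, map_mul, map_inv₀, hσσ, div_eq_mul_inv, mul_assoc]
  rw [← heq, map_pow, hG1, one_pow] at hprod
  exact absurd hprod (by decide)

end Torus

end CfsgLib.OddSpectra
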