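import Mathlib
import Cfsg.Agent.Lib.OddSpectra.Torus
import Cfsg.Agent.Lib.SpinorMatrix
import Cfsg.Agent.S2904

/-! An odd-dimensional spinor kernel has no element of order `p * (q ^ m + 1)`. -/

set_option autoImplicit false
set_option maxHeartbeats 1600000

namespace CfsgLib.OddSpectra

open QuadraticMap CfsgLib.WittExtension CfsgLib.SpinorNorm CfsgLib.SpinorMatrix Module Polynomial

variable {F V : Type*} [Field F] [Fintype F] [DecidableEq F] [AddCommGroup V] [Module F V] [Fintype V]
  [DecidableEq V]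

omit [Fintype F] [DecidableEq F] [Fintype V] [DecidableEq V] in
theorem coe_pow_iso (Q : QuadraticForm F V) (g : quadIso Q) (k : ℕ) :
    (((g ^ k).1 : V ≃ₗ[F] V) : V →ₗ[F] V) = ((g.1 : V →ₗ[F] V) : Module.End F V) ^ k := by
  induction k with
  | zero => rfl
  | succ k ih => rw [pow_succ' (g.1 : V →ₗ[F] V), ← ih, pow_succ']; rfl

theorem commute_aeval {A : Type*} [Ring A] [Algebra F A] {T X' : A} (h : Commute T X') (g : F[X]) :
    Commute T (aeval X' g) := by
  induction g using Polynomial.induction_on' with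
  | add g g' hg hg' => rw [map_add]; exact hg.add_right hg'
  | monomial k c =>
    rw [aeval_monomial]
    exact (Algebra.commute_algebraMap_right c T).mul_right (h.pow_right k)

omit [DecidableEq F] in
/-- Degrees of irreducible factors of a cyclotomic sum at a primitive prime. -/
theorem natDegree_factor {r m : ℕ} (hm : 0 < m) (p : ℕ) [Fact p.Prime] [CharP F p] (hr : r.Prime) (hrp : r ≠ p)
    (hdvd : r ∣ Fintype.card F ^ (2 * m) - 1)
    (hprim : ∀ k, 0 < k → k < 2 * m → ¬ r ∣ Fintype.card F ^ k - 1)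
    {f : F[X]} (hf : Irreducible f) (hd : f ∣ ∑ i ∈ Finset.range r, (X : F[X]) ^ i) :
    f.natDegree = 2 * m ∧ orderOf (AdjoinRoot.root f) = r := by
  classical
  haveI := Fact.mk hf
  haveI := Fact.mk hr
  let pb := AdjoinRoot.powerBasis hf.ne_zero
  haveI : Module.Finite F (AdjoinRoot f) := pb.finite
  haveI : Finite (AdjoinRoot f) := Module.finite_of_finite F
  haveI : Fintype (AdjoinRoot f) := Fintype.ofFinite _
  haveI : CharP (AdjoinRoot f) p := charP_of_injective_algebraMap (algebraMap F _).injective p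
  set ζ := AdjoinRoot.root f
  have hsum : ∑ i ∈ Finset.range r, ζ ^ i = 0 := by
    have := (AdjoinRoot.mk_eq_zero).2 hd
    rw [map_sum] at this
    simp only [map_pow, AdjoinRoot.mk_X] at this
    exact this
  have hζr : ζ ^ r = 1 := sub_eq_zero.1 (by rw [← geom_sum_mul, hsum, zero_mul])
  have hζ1 : ζ ≠ 1 := fun h => by
    simp only [h, one_pow, Finset.sum_const, Finset.card_range, nsmul_eq_mul, mul_one] at hsum
    exact hrp ((Nat.prime_dvd_prime_iff_eq Fact.out hr).1 ((CharP.cast_eq_zero_iff _ p r).1 hsum)).symm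
  have hord : orderOf ζ = r := orderOf_eq_prime hζr hζ1
  have hζ0 : ζ ≠ 0 := fun h => by rw [h, zero_pow hr.ne_zero] at hζr; exact zero_ne_one hζr
  have hcard : Fintype.card (AdjoinRoot f) = Fintype.card F ^ f.natDegree := by
    rw [Module.card_eq_pow_finrank (K := F) (V := AdjoinRoot f), pb.finrank, AdjoinRoot.powerBasis_dim]
  have hq : 1 < Fintype.card F := Fintype.one_lt_card
  refine ⟨le_antisymm ?_ ?_, hord⟩
  · obtain ⟨γ, hγ⟩ := IsCyclic.exists_ofOrder_eq_natCard (α := (AdjoinRoot f)ˣ)
    have hfix : (FiniteField.frobeniusAlgHom F (AdjoinRoot f)) ^ (2 * m) = AlgHom.id F _ := by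
      refine AdjoinRoot.algHom_ext ?_
      rw [AlgHom.coe_pow, FiniteField.coe_frobeniusAlgHom, pow_iterate]
      show ζ ^ (Fintype.card F ^ (2 * m)) = ζ
      obtain ⟨t, ht⟩ := hdvd
      rw [show Fintype.card F ^ (2 * m) = r * t + 1 by
        have := Nat.one_le_pow (2 * m) _ (show 0 < Fintype.card F by omega); omega,
        pow_succ, pow_mul, hζr, one_pow, one_mul]
    have hγfix : γ ^ (Fintype.card F ^ (2 * m) - 1) = 1 := by
      have h := DFunLike.congr_fun hfix (γ : AdjoinRoot f)
      rw [AlgHom.coe_pow, FiniteField.coe_frobeniusAlgHom, pow_iterate, AlgHom.id_apply] at h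
      refine Units.ext ?_
      rw [Units.val_pow_eq_pow_val, Units.val_one]
      refine mul_left_cancel₀ (Units.ne_zero γ) ?_
      rw [← pow_succ', mul_one, Nat.sub_add_cancel (Nat.one_le_pow _ _ (by omega))]
      exact h
    have h := Nat.le_of_dvd (Nat.sub_pos_of_lt ?_) (orderOf_dvd_of_pow_eq_one hγfix)
    · rw [hγ, Nat.card_eq_fintype_card, Fintype.card_units, hcard] at h
      by_contra hlt
      have := Nat.pow_lt_pow_right hq (not_le.1 hlt)
      have := Nat.one_le_pow (2 * m) _ (show 0 < Fintype.card F by omega)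
      omega
    · refine Nat.one_lt_pow ?_ hq
      omega
  · by_contra hlt
    refine hprim f.natDegree hf.natDegree_pos (not_le.1 hlt) ?_
    rw [← hord, ← hcard]
    exact orderOf_dvd_of_pow_eq_one (FiniteField.pow_card_sub_one_eq_one _ hζ0)

/-- No element of order `p * (q ^ m + 1)` in the spinor kernel in dimension `2m + 3`. -/
theorem no_order (Q : QuadraticForm F V) (h2 : (2 : F) ≠ 0) (hQ : (polarBilin Q).Nondegenerate)
    (hc : Subgroup.closure (Refl Q) = ⊤) (p : ℕ) [Fact p.Prime] [CharP F p] {m : ℕ} (hm : 2 ≤ m)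
    (hV : finrank F V = 2 * m + 3) (G : quadIso Q) (hG : phi Q hQ hc G = 1) :
    orderOf G ≠ p * (Fintype.card F ^ m + 1) := by
  classical
  intro hord
  set q := Fintype.card F with hq
  set N := q ^ m + 1 with hN
  have hq1 : 1 < q := Fintype.one_lt_card
  have hpP : p.Prime := Fact.out
  have hp2 : p ≠ 2 := fun h => h2 (by subst h; exact CharTwo.two_eq_zero)
  obtain ⟨a, -, hqa⟩ := FiniteField.card F p
  rw [← hq] at hqa
  have hqeven : ¬ 2 ∣ q := fun h => hp2 ((Nat.prime_dvd_prime_iff_eq Nat.prime_two hpP).1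
    (Nat.prime_two.dvd_of_dvd_pow (hqa ▸ h))).symm
  obtain ⟨r, hr, hrd, hrp⟩ := Cfsg.Agent.S2904.result q (2 * m) hq1 (by omega)
    (fun h => hqeven (h.1 ▸ dvd_rfl)) (fun h => by omega)
  have hpq : p ∣ q := hqa ▸ dvd_pow_self p a.ne_zero
  have hrp' : r ≠ p := fun h => by
    have h1 : r ∣ q ^ (2 * m) := (h ▸ hpq).trans (dvd_pow_self q (by omega))
    have := Nat.dvd_sub h1 hrd
    rw [Nat.sub_sub_self (Nat.one_le_pow _ _ (by omega))] at this
    exact hr.ne_one (Nat.dvd_one.1 this)
  have hqm : 1 < q ^ m := Nat.one_lt_pow (by omega) hq1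
  have hrN : r ∣ N := by
    have he : q ^ (2 * m) - 1 = N * (q ^ m - 1) := by
      have := Nat.sq_sub_sq (q ^ m) 1
      rw [one_pow, ← pow_mul, mul_comm m 2] at this
      exact this
    rcases hr.dvd_mul.1 (he ▸ hrd) with h | h
    · exact h
    · exact absurd h (hrp m (by omega) (by omega))
  obtain ⟨hN0, hN2⟩ : 0 < N ∧ 2 < N := ⟨by omega, by omega⟩
  have hNF : (N : F) = 1 := by
    rw [hN, Nat.cast_add, Nat.cast_pow, hq, FiniteField.cast_card_eq_zero, zero_pow (by omega), zero_add,
      Nat.cast_one]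
  have hfin : 0 < orderOf G := by rw [hord]; exact Nat.mul_pos hpP.pos hN0
  set S := G ^ p with hSd
  set U := G ^ N with hUd
  have hSord : orderOf S = N := by
    rw [hSd, orderOf_pow' _ hpP.ne_zero, hord, Nat.gcd_eq_right (dvd_mul_right _ _), Nat.mul_div_cancel_left _ hpP.pos]
  have hUord : orderOf U = p := by
    rw [hUd, orderOf_pow' _ hN0.ne', hord, Nat.gcd_eq_right (dvd_mul_left _ _), Nat.mul_div_cancel _ hN0]
  have hphiS : phi Q hQ hc S = 1 := by rw [hSd, map_pow, hG, one_pow]
  set x := S ^ (N / r) with hxd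
  have hxord : orderOf x = r := by
    rw [hxd, ← hSord]; exact orderOf_pow_orderOf_div (by omega) (hSord ▸ hrN)
  -- linear maps
  let s : Module.End F V := (S.1 : V →ₗ[F] V)
  let u : Module.End F V := (U.1 : V →ₗ[F] V)
  let Xl : Module.End F V := (x.1 : V →ₗ[F] V)
  have hsu : Commute s u := by
    have h : S * U = U * S := (Commute.pow_pow (Commute.refl G) p N).eq
    exact congrArg (fun g : quadIso Q => (g.1 : V →ₗ[F] V)) h
  have hXs : Commute Xl s := by
    show Commute ((x.1 : V →ₗ[F] V) : Module.End F V) s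
    rw [hxd, coe_pow_iso]; exact Commute.pow_left (Commute.refl s) _
  have hXu : Commute Xl u := by
    show Commute ((x.1 : V →ₗ[F] V) : Module.End F V) u
    rw [hxd, coe_pow_iso]; exact Commute.pow_left hsu _
  have hXr : Xl ^ r = 1 := by
    show ((x.1 : V →ₗ[F] V) : Module.End F V) ^ r = 1
    rw [← coe_pow_iso, ← hxord, pow_orderOf_eq_one]; rfl
  have hpres : ∀ (g : quadIso Q) (v w : V), polar Q (g.1 v) (g.1 w) = polar Q v w := fun g v w => by
    unfold polar
    rw [← map_add, g.2, g.2, g.2]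
  set K := LinearMap.ker (Xl - 1) with hKd
  set W := LinearMap.range (Xl - 1) with hWd
  have hK : ∀ v, v ∈ K ↔ Xl v = v := fun v => by
    rw [hKd, LinearMap.mem_ker, LinearMap.sub_apply, Module.End.one_apply, sub_eq_zero]
  have hperp : ∀ k ∈ K, ∀ w ∈ W, polar Q k w = 0 := by
    rintro k hk _ ⟨b, rfl⟩
    rw [LinearMap.sub_apply, Module.End.one_apply, sub_eq_add_neg, polar_add_right, polar_neg_right]
    nth_rewrite 1 [← (hK k).1 hk]
    rw [show polar Q (Xl k) (Xl b) = polar Q k b from hpres x k b, add_neg_cancel]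
  have hr0 : (r : F) ≠ 0 := fun h => hrp'
    ((Nat.prime_dvd_prime_iff_eq hpP hr).1 ((CharP.cast_eq_zero_iff F p r).1 h)).symm
  have hdis : Disjoint K W := by
    rw [Submodule.disjoint_def]
    rintro y hy ⟨b, hb⟩
    rw [hK] at hy
    have hb' : Xl b = b + y := by
      rw [← hb, LinearMap.sub_apply, Module.End.one_apply]; abel
    have hk : ∀ k : ℕ, (Xl ^ k) b = b + (k : F) • y := by
      intro k
      induction k with
      | zero => simp
      | succ k ih =>
        rw [pow_succ', Module.End.mul_apply, ih, map_add, map_smul, hy, hb', Nat.cast_succ, add_smul, one_smul]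
        abel
    have := hk r
    rw [hXr, Module.End.one_apply, left_eq_add, smul_eq_zero] at this
    exact this.resolve_left hr0
  have hdim : finrank F W + finrank F K = 2 * m + 3 := by
    rw [← hV]; exact (Xl - 1).finrank_range_add_finrank_ker
  have hcompl : IsCompl K W := (Submodule.isCompl_iff_disjoint K W (by rw [hV]; omega)).2 hdis
  have hWinv : ∀ T : Module.End F V, Commute Xl T → ∀ w ∈ W, T w ∈ W := by
    rintro T hT _ ⟨b, rfl⟩
    refine ⟨T b, ?_⟩
    have : (Xl - 1) * T = T * (Xl - 1) := by rw [sub_mul, mul_sub, hT.eq, one_mul, mul_one]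
    exact LinearMap.congr_fun this b
  have hKinv : ∀ T : Module.End F V, Commute Xl T → ∀ k ∈ K, T k ∈ K := fun T hT k hk => by
    rw [hK] at hk ⊢
    rw [← Module.End.mul_apply, hT.eq, Module.End.mul_apply, hk]
  have hWnd : ∀ w ∈ W, (∀ w' ∈ W, polar Q w w' = 0) → w = 0 := fun w hw h => hQ.1 w fun v => by
    obtain ⟨k, hk, w', hw', rfl⟩ := Submodule.mem_sup.1 (hcompl.sup_eq_top ▸ Submodule.mem_top : v ∈ K ⊔ W)
    rw [polarBilin_apply_apply, polar_add_right, h w' hw', polar_comm, hperp k hk w hw, zero_add]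
  have hKnd : ∀ k ∈ K, (∀ k' ∈ K, polar Q k k' = 0) → k = 0 := fun k hk h => hQ.1 k fun v => by
    obtain ⟨k', hk', w', hw', rfl⟩ := Submodule.mem_sup.1 (hcompl.sup_eq_top ▸ Submodule.mem_top : v ∈ K ⊔ W)
    rw [polarBilin_apply_apply, polar_add_right, h k' hk', hperp k hk w' hw', zero_add]
  -- the field on W
  let XW : Module.End F W := Xl.restrict (hWinv Xl (Commute.refl _))
  have hXWv : ∀ w : W, (XW w : V) = Xl w := fun w => rfl
  set P : F[X] := ∑ i ∈ Finset.range r, (X : F[X]) ^ i with hP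
  have hPW : aeval XW P = 0 := by
    refine LinearMap.ext fun w => Subtype.ext ?_
    obtain ⟨b, hb⟩ := w.2
    have hpw : ∀ i : ℕ, ((XW ^ i) w : V) = (Xl ^ (i + 1)) b - (Xl ^ i) b := by
      intro i
      induction i with
      | zero => rw [pow_zero, pow_zero, zero_add, pow_one, Module.End.one_apply, Module.End.one_apply, ← hb]; rfl
      | succ i ih =>
        rw [pow_succ' XW, Module.End.mul_apply, hXWv, ih, map_sub, pow_succ' Xl (i + 1), pow_succ' Xl i]
        rfl
    rw [hP, map_sum, LinearMap.sum_apply, Submodule.coe_sum, LinearMap.zero_apply, ZeroMemClass.coe_zero]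
    simp only [map_pow, aeval_X, hpw]
    rw [Finset.sum_range_sub (fun i => (Xl ^ i) b) r, hXr, pow_zero, sub_self]
  have hWne : W ≠ ⊥ := fun h => hr.ne_one <| hxord ▸ orderOf_eq_one_iff.2 (Subtype.ext (LinearEquiv.ext fun v => by
    have : (Xl - 1) v ∈ W := ⟨v, rfl⟩
    rw [h, Submodule.mem_bot, LinearMap.sub_apply, sub_eq_zero] at this
    exact this))
  haveI : Nontrivial W := Submodule.nontrivial_iff_ne_bot.2 hWne
  have hint : IsIntegral F XW := Algebra.IsIntegral.isIntegral XW
  set μ := minpoly F XW with hμ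
  have hμP : μ ∣ P := minpoly.dvd F XW hPW
  have hμ1 : ¬ IsUnit μ := minpoly.not_isUnit F XW
  have hWle : finrank F W < 4 * m := by omega
  have hμle : μ.natDegree ≤ finrank F W := by
    rw [← XW.charpoly_natDegree]
    exact natDegree_le_of_dvd XW.minpoly_dvd_charpoly XW.charpoly_monic.ne_zero
  obtain ⟨f, hf, hfμ⟩ := WfDvdMonoid.exists_irreducible_factor hμ1 (minpoly.ne_zero hint)
  obtain ⟨hfdeg, hζord⟩ := natDegree_factor (m := m) (by omega) p hr hrp' hrd hrp hf (hfμ.trans hμP)
  have hfW : aeval XW f = 0 := by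
    obtain ⟨g, hg⟩ := hfμ
    have hg0 : g ≠ 0 := fun h => minpoly.ne_zero hint (by rw [← hμ, hg, h, mul_zero])
    suffices IsUnit g by
      obtain ⟨c, hc', rfl⟩ := Polynomial.isUnit_iff.1 this
      have := minpoly.aeval F XW
      rw [← hμ, hg, map_mul, aeval_C, ← Algebra.commutes, ← Algebra.smul_def, smul_eq_zero] at this
      exact this.resolve_left hc'.ne_zero
    by_contra hgu
    obtain ⟨f', hf', hf'g⟩ := WfDvdMonoid.exists_irreducible_factor hgu hg0
    have hd' := (natDegree_factor (m := m) (by omega) p hr hrp' hrd hrp hf' ((hf'g.trans ⟨f, by rw [hg, mul_comm]⟩).trans hμP)).1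
    have := natDegree_le_of_dvd hf'g hg0
    rw [hg, natDegree_mul hf.ne_zero hg0] at hμle
    omega
  haveI := Fact.mk hf
  haveI := Fact.mk hr
  let pb := AdjoinRoot.powerBasis hf.ne_zero
  haveI : Module.Finite F (AdjoinRoot f) := pb.finite
  haveI : Finite (AdjoinRoot f) := Module.finite_of_finite F
  haveI : Fintype (AdjoinRoot f) := Fintype.ofFinite _
  haveI : CharP (AdjoinRoot f) p := charP_of_injective_algebraMap (algebraMap F _).injective p
  have hLdim : finrank F (AdjoinRoot f) = 2 * m := by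
    rw [pb.finrank, AdjoinRoot.powerBasis_dim, hfdeg]
  let φ : AdjoinRoot f →ₐ[F] Module.End F W :=
    Ideal.Quotient.liftₐ (Ideal.span {f}) (aeval XW) fun g hg => by
      obtain ⟨h, rfl⟩ := Ideal.mem_span_singleton.1 hg
      rw [map_mul, hfW, zero_mul]
  have hφroot : φ (AdjoinRoot.root f) = XW := aeval_X XW
  obtain ⟨w0, hw0⟩ := exists_ne (0 : W)
  let ev : AdjoinRoot f →ₗ[F] W := (LinearMap.applyₗ w0).comp φ.toLinearMap
  have hev : ∀ c, ev c = φ c w0 := fun c => rfl
  have hevinj : Function.Injective ev := by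
    rw [← LinearMap.ker_eq_bot, Submodule.eq_bot_iff]
    intro c hc'
    by_contra h0
    have := congrArg (φ c⁻¹) (LinearMap.mem_ker.1 hc')
    rw [hev, ← Module.End.mul_apply, ← map_mul, inv_mul_cancel₀ h0, map_one, Module.End.one_apply, map_zero] at this
    exact hw0 this
  have hWdim : finrank F W = 2 * m := by
    letI : Module (AdjoinRoot f) W := Module.compHom W φ.toRingHom
    haveI : IsScalarTower F (AdjoinRoot f) W := ⟨fun c l w => by
      show φ (c • l) w = c • φ l w
      rw [map_smul, LinearMap.smul_apply]⟩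
    have h1 := Module.finrank_mul_finrank F (AdjoinRoot f) W
    have h2' := LinearMap.finrank_le_finrank_of_injective hevinj
    rw [hLdim] at h1 h2'
    have : finrank (AdjoinRoot f) W < 2 := Nat.lt_of_mul_lt_mul_left (a := 2 * m) (by rw [h1]; omega)
    interval_cases h : finrank (AdjoinRoot f) W <;> omega
  have hKdim : finrank F K = 3 := by omega
  let evE : AdjoinRoot f ≃ₗ[F] W := LinearEquiv.ofBijective ev
    ⟨hevinj, (LinearMap.injective_iff_surjective_of_finrank_eq_finrank (by rw [hLdim, hWdim])).1 hevinj⟩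
  have hcomm : ∀ T : Module.End F W, Commute T XW → ∃ t, ∀ c, T (ev c) = ev (t * c) := by
    intro T hT
    obtain ⟨t, ht⟩ := evE.surjective (T w0)
    refine ⟨t, fun c => ?_⟩
    have hc' : T * φ c = φ c * T := by
      induction c using AdjoinRoot.induction_on with
      | ih g => exact (commute_aeval hT g).eq
    rw [hev, hev, ← Module.End.mul_apply, hc', Module.End.mul_apply, mul_comm t c, map_mul, Module.End.mul_apply]
    exact congrArg _ ht.symm
  have hζ : ∀ c, (ev (AdjoinRoot.root f * c) : V) = Xl (ev c) := fun c => by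
    rw [hev, hev, map_mul, hφroot]; rfl
  let Φ : (K × AdjoinRoot f) ≃ₗ[F] V :=
    ((LinearEquiv.refl F K).prodCongr evE) ≪≫ₗ Submodule.prodEquivOfIsCompl K W hcompl
  have hΦ : ∀ k c, Φ (k, c) = (k : V) + (ev c : V) := fun k c => by
    simp [Φ, evE]; rfl
  have hs : ∀ k c, Q (Φ (k, c)) = Q (Φ (k, 0)) + Q (Φ (0, c)) := fun k c => by
    simp only [hΦ, map_zero, ZeroMemClass.coe_zero, add_zero, zero_add]
    rw [QuadraticMap.map_add Q, hperp _ k.2 _ (ev c).2, add_zero]
  have hpol : ∀ c d, polar (formR Q Φ) c d = polar Q (ev c : V) (ev d) := fun c d => by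
    simp [formR, polar, QuadraticMap.comp_apply, hΦ]
  have hLnd : ∀ c, (∀ d, polar (formR Q Φ) c d = 0) → c = 0 := fun c h => hevinj <| by
    rw [map_zero]
    refine Subtype.ext (hWnd _ (ev c).2 fun w hw => ?_)
    obtain ⟨d, hd⟩ := evE.surjective ⟨w, hw⟩
    have := h d
    rw [hpol, show ev d = ⟨w, hw⟩ from hd] at this
    exact this
  set σ := (FiniteField.frobeniusAlgHom F (AdjoinRoot f)) ^ m with hσd
  have hσ : ∀ y, σ y = y ^ (q ^ m) := fun y => by
    rw [hσd, AlgHom.coe_pow, FiniteField.coe_frobeniusAlgHom, pow_iterate]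
  set ζ := AdjoinRoot.root f
  have hζr : ζ ^ r = 1 := by rw [← hζord, pow_orderOf_eq_one]
  have hcardL : Fintype.card (AdjoinRoot f) = q ^ (2 * m) := by
    rw [Module.card_eq_pow_finrank (K := F) (V := AdjoinRoot f), hLdim]
  have hfix : ∀ y : AdjoinRoot f, σ (σ y) = y := fun y => by
    rw [hσ, hσ, ← pow_mul, ← pow_add, ← two_mul, ← hcardL, FiniteField.pow_card]
  have hσζ : σ ζ * ζ = 1 := by
    obtain ⟨t, ht⟩ := hrN
    rw [hσ, ← pow_succ, ← hN, ht, pow_mul, hζr, one_pow]
  have hσne : ∃ c, σ c ≠ c := by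
    refine ⟨ζ, fun h => ?_⟩
    rw [h] at hσζ
    have h1 : r ∣ 2 := hζord ▸ orderOf_dvd_of_pow_eq_one (by rw [pow_two]; exact hσζ)
    obtain rfl : r = 2 := (Nat.prime_dvd_prime_iff_eq hr Nat.prime_two).1 h1
    refine hrp 1 one_pos (by omega) ?_
    rw [pow_one]; omega
  obtain ⟨γ, hγ⟩ := IsCyclic.exists_ofOrder_eq_natCard (α := (AdjoinRoot f)ˣ)
  have hγN : orderOf γ = N * (q ^ m - 1) := by
    rw [hγ, Nat.card_eq_fintype_card, Fintype.card_units, hcardL]
    have := Nat.sq_sub_sq (q ^ m) 1
    rw [one_pow, ← pow_mul, mul_comm m 2] at this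
    exact this
  have hz : ∀ c, σ c = c → ∃ z, z * σ z = c := by
    intro c hcc
    rcases eq_or_ne c 0 with rfl | hc0
    · exact ⟨0, zero_mul _⟩
    have hmem : Units.mk0 c hc0 ∈ Subgroup.zpowers γ := by
      rw [Subgroup.eq_top_of_card_eq (Subgroup.zpowers γ) (by rw [Nat.card_zpowers, hγ])]
      exact Subgroup.mem_top _
    obtain ⟨k, hk⟩ := (isOfFinOrder_of_finite γ).mem_powers_iff_mem_zpowers.2 hmem
    have hk' : γ ^ (k * (q ^ m - 1)) = 1 := by
      rw [pow_mul, show γ ^ k = _ from hk]
      refine Units.ext ?_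
      rw [Units.val_pow_eq_pow_val, Units.val_mk0, Units.val_one]
      refine mul_left_cancel₀ hc0 ?_
      rw [← pow_succ', mul_one, Nat.sub_add_cancel hqm.le, ← hσ, hcc]
    obtain ⟨i, rfl⟩ : N ∣ k := Nat.dvd_of_mul_dvd_mul_right (Nat.sub_pos_of_lt hqm)
      (hγN ▸ orderOf_dvd_of_pow_eq_one hk')
    refine ⟨((γ ^ i : (AdjoinRoot f)ˣ) : AdjoinRoot f), ?_⟩
    rw [hσ, ← pow_succ', ← hN, ← Units.val_pow_eq_pow_val, ← pow_mul, mul_comm i N,
      show γ ^ (N * i) = _ from hk, Units.val_mk0]
  have hadj : ∀ c y z, polar (formR Q Φ) (c * y) z = polar (formR Q Φ) y (σ c * z) := by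
    have h1 : ∀ y z, polar (formR Q Φ) (ζ * y) z = polar (formR Q Φ) y (σ ζ * z) := fun y z => by
      conv_lhs => rw [show z = ζ * (σ ζ * z) by rw [← mul_assoc, mul_comm ζ, hσζ, one_mul]]
      rw [hpol, hpol, hζ, hζ]
      exact hpres x _ _
    intro c
    induction c using AdjoinRoot.induction_on with
    | ih g =>
      induction g using Polynomial.induction_on' with
      | add g h hg hh =>
        intro y z
        rw [map_add, map_add σ, add_mul, add_mul, polar_add_left, polar_add_right, hg, hh]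
      | monomial k c =>
        intro y z
        rw [← C_mul_X_pow_eq_monomial, map_mul, map_pow, AdjoinRoot.mk_C, AdjoinRoot.mk_X,
          ← AdjoinRoot.algebraMap_eq, map_mul σ, map_pow σ, AlgHom.commutes, ← Algebra.smul_def, ← Algebra.smul_def,
          smul_mul_assoc, smul_mul_assoc, polar_smul_left, polar_smul_right]
        congr 1
        induction k generalizing y z with
        | zero => simp
        | succ k ih => rw [pow_succ, mul_assoc, ih, h1, ← mul_assoc, pow_succ']
  -- U is trivial on W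
  let uW : Module.End F W := u.restrict (hWinv u hXu)
  let sW : Module.End F W := s.restrict (hWinv s hXs)
  obtain ⟨tu, htu⟩ := hcomm uW (by
    refine LinearMap.ext fun w => Subtype.ext ?_
    exact (LinearMap.congr_fun hXu.eq (w : V)).symm)
  obtain ⟨e, he⟩ := hcomm sW (by
    refine LinearMap.ext fun w => Subtype.ext ?_
    exact (LinearMap.congr_fun hXs.eq (w : V)).symm)
  have hwalk : ∀ (g : quadIso Q) (t : AdjoinRoot f), (∀ c, g.1 (ev c : V) = (ev (t * c) : V)) →
      ∀ (k : ℕ) c, (g ^ k).1 (ev c : V) = (ev (t ^ k * c) : V) := by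
    intro g t h k
    induction k with
    | zero => intro c; simp
    | succ k ih =>
      intro c
      rw [pow_succ']
      show g.1 ((g ^ k).1 (ev c : V)) = _
      rw [ih, h, pow_succ', mul_assoc]
  have hU1 : ∀ c, U.1 (ev c : V) = (ev (tu * c) : V) := fun c => congrArg Subtype.val (htu c)
  have hS1 : ∀ c, S.1 (ev c : V) = (ev (e * c) : V) := fun c => congrArg Subtype.val (he c)
  have htu1 : tu = 1 := by
    have h := hwalk U tu hU1 p 1
    rw [← hUord, pow_orderOf_eq_one, hUord, mul_one] at h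
    have h' : tu ^ p = 1 := hevinj (Subtype.ext h.symm)
    exact sub_eq_zero.1 ((pow_eq_zero_iff hpP.ne_zero).1 (by rw [sub_pow_char, h', one_pow, sub_self]))
  have hUW : ∀ w ∈ W, u w = w := fun w hw => by
    obtain ⟨c, hc'⟩ := evE.surjective ⟨w, hw⟩
    have hw' : w = (ev c : V) := (congrArg Subtype.val hc').symm
    rw [hw']
    show U.1 _ = _
    rw [hU1, htu1, one_mul]
  -- the three-dimensional part
  let Nn : Module.End F K := (u - 1).restrict (hKinv (u - 1) (hXu.sub_right (Commute.one_right _)))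
  have hNv : ∀ k : K, (Nn k : V) = u k - k := fun k => rfl
  have hnil : IsNilpotent Nn := by
    refine ⟨p, LinearMap.ext fun k => Subtype.ext ?_⟩
    have hup : u ^ p = 1 := by
      show ((U.1 : V →ₗ[F] V) : Module.End F V) ^ p = 1
      rw [← coe_pow_iso, ← hUord, pow_orderOf_eq_one]; rfl
    have h0 : (u - 1) ^ p = 0 := by
      have h := congrArg (aeval u) (sub_pow_char (X : F[X]) 1 (p := p))
      rwa [map_pow, map_sub, aeval_X, map_one, map_sub, map_pow, aeval_X, hup, map_pow, map_one, one_pow, sub_self] at h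
    rw [Module.End.pow_restrict, LinearMap.restrict_apply]
    simp [h0]
  have hN3 : Nn ^ 3 = 0 := by
    have h := LinearMap.aeval_self_charpoly Nn
    rwa [(LinearMap.isNilpotent_iff_charpoly Nn).1 hnil, hKdim, map_pow, aeval_X] at h
  have hNne : Nn ≠ 0 := fun h => hpP.ne_one <| hUord ▸ orderOf_eq_one_iff.2 (Subtype.ext (LinearEquiv.ext fun v => by
    obtain ⟨k, hk, w, hw, rfl⟩ := Submodule.mem_sup.1 (hcompl.sup_eq_top ▸ Submodule.mem_top : v ∈ K ⊔ W)
    show u (k + w) = k + w
    have : u k - k = 0 := by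
      have := congrArg Subtype.val (LinearMap.congr_fun h (⟨k, hk⟩ : K))
      rw [hNv] at this
      exact this
    rw [map_add, hUW w hw, sub_eq_zero.1 this]))
  have hN2' : Nn ^ 2 ≠ 0 := by
    intro h
    have hz0 : ∀ k : K, polar Q (Nn k : V) k = 0 := by
      intro k
      have hu1 : u (k : V) = k + (Nn k : V) := by rw [hNv]; abel
      have hun : u (Nn k : V) = Nn k := by
        have := congrArg Subtype.val (LinearMap.congr_fun h k)
        rw [pow_two, Module.End.mul_apply, hNv] at this
        exact sub_eq_zero.1 this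
      have e1 : Q (u (k : V)) = Q k := U.2 _
      have e2 : Q (u (u (k : V))) = Q k := (U.2 _).trans e1
      rw [hu1, map_add, hu1, hun, add_assoc, ← two_smul F (Nn k : V), QuadraticMap.map_add Q, polar_smul_right,
        QuadraticMap.map_smul] at e2
      rw [hu1, QuadraticMap.map_add Q] at e1
      rw [polar_comm]
      simp only [smul_eq_mul] at e2
      have : (2 : F) * polar Q (k : V) (Nn k : V) = 0 := by linear_combination (4 : F) * e1 - e2
      exact (mul_eq_zero.1 this).resolve_left h2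
    have hle : LinearMap.range Nn ≤ LinearMap.ker Nn := by
      rintro _ ⟨k, rfl⟩
      rw [LinearMap.mem_ker, ← Module.End.mul_apply, ← pow_two, h, LinearMap.zero_apply]
    have h3 := Nn.finrank_range_add_finrank_ker
    rw [hKdim] at h3
    have h4 := Submodule.finrank_mono hle
    have h5 : finrank F (LinearMap.range Nn) = 1 := by
      have : finrank F (LinearMap.range Nn) ≠ 0 := fun h0 =>
        hNne (LinearMap.range_eq_bot.1 (Submodule.finrank_eq_zero.1 h0))
      omega
    obtain ⟨⟨v, hv⟩, hv0, hspan⟩ := (finrank_eq_one_iff' (V := LinearMap.range Nn)).1 h5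
    have hall : ∀ k : K, ∃ c : F, Nn k = c • v := fun k => by
      obtain ⟨c, hc'⟩ := hspan ⟨Nn k, ⟨k, rfl⟩⟩
      exact ⟨c, (congrArg Subtype.val hc').symm⟩
    have hv0' : v ≠ 0 := fun h0 => hv0 (Subtype.ext h0)
    obtain ⟨k2, hk2⟩ : ∃ k : K, polar Q (v : V) k ≠ 0 := by
      by_contra hcon
      push Not at hcon
      exact hv0' (Subtype.ext (hKnd _ v.2 fun k hk => hcon ⟨k, hk⟩))
    have hN0' : ∀ k : K, polar Q (v : V) k ≠ 0 → Nn k = 0 := by
      intro k hk
      obtain ⟨c, hc'⟩ := hall k
      have := hz0 k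
      rw [hc', Submodule.coe_smul, polar_smul_left, smul_eq_mul, mul_eq_zero] at this
      rw [hc', this.resolve_right hk, zero_smul]
    refine hNne (LinearMap.ext fun k => ?_)
    by_cases hk : polar Q (v : V) k = 0
    · have := hN0' (k + k2) (by rw [Submodule.coe_add, polar_add_right, hk, zero_add]; exact hk2)
      rw [map_add, hN0' k2 hk2, add_zero] at this
      exact this
    · exact hN0' k hk
  obtain ⟨w, hw⟩ : ∃ w : K, (Nn ^ 2) w ≠ 0 := by
    by_contra hcon
    push Not at hcon
    exact hN2' (LinearMap.ext hcon)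
  have hN3' : Nn ((Nn ^ 2) w) = 0 := by
    rw [← Module.End.mul_apply, ← pow_succ', hN3, LinearMap.zero_apply]
  have hlin : LinearIndependent F ![w, Nn w, (Nn ^ 2) w] := by
    rw [Fintype.linearIndependent_iff]
    intro g hg
    simp only [Fin.sum_univ_three, Matrix.cons_val_zero, Matrix.cons_val_one, Matrix.cons_val] at hg
    have e2 : Nn (Nn w) = (Nn ^ 2) w := by rw [pow_two, Module.End.mul_apply]
    have h1 := congrArg Nn hg
    simp only [map_add, map_smul, e2, hN3', smul_zero, add_zero, map_zero] at h1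
    have h0 := congrArg Nn h1
    simp only [map_add, map_smul, e2, hN3', smul_zero, add_zero, map_zero] at h0
    have g0 : g 0 = 0 := (smul_eq_zero.1 h0).resolve_right hw
    rw [g0, zero_smul, zero_add] at h1 hg
    have g1 : g 1 = 0 := (smul_eq_zero.1 h1).resolve_right hw
    rw [g1, zero_smul, zero_add] at hg
    have g2 : g 2 = 0 := (smul_eq_zero.1 hg).resolve_right hw
    intro i; fin_cases i <;> assumption
  let B := basisOfLinearIndependentOfCardEqFinrank hlin (by rw [Fintype.card_fin, hKdim])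
  let T : Module.End F K := s.restrict (hKinv s hXs)
  have hTv : ∀ k : K, (T k : V) = s k := fun k => rfl
  have hTN : Commute T Nn := LinearMap.ext fun k => Subtype.ext (by
    show s (u (k : V) - k) = u (s (k : V)) - s (k : V)
    rw [map_sub]
    exact congrArg (· - s (k : V)) (LinearMap.congr_fun hsu.eq (k : V)))
  set g : F[X] := C (B.repr (T w) 0) + C (B.repr (T w) 1) * X + C (B.repr (T w) 2) * X ^ 2 with hgd
  have hB : ∀ i, B i = ![w, Nn w, (Nn ^ 2) w] i := fun i => by simp [B]
  have hTg : T = aeval Nn g := by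
    have hcg : Commute (aeval Nn g) Nn := (commute_aeval (Commute.refl Nn) g).symm
    have h0 : T w = aeval Nn g w := by
      conv_lhs => rw [← B.sum_repr (T w)]
      simp [Fin.sum_univ_three, hB, hgd, aeval_C, Algebra.algebraMap_eq_smul_one]
    have h1 : T (Nn w) = aeval Nn g (Nn w) := by
      rw [← Module.End.mul_apply, hTN.eq, Module.End.mul_apply, h0, ← Module.End.mul_apply, ← hcg.eq, Module.End.mul_apply]
    refine B.ext fun i => ?_
    rw [hB]
    fin_cases i
    · exact h0
    · exact h1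
    · show T ((Nn ^ 2) w) = aeval Nn g ((Nn ^ 2) w)
      rw [pow_two, Module.End.mul_apply, ← Module.End.mul_apply, hTN.eq, Module.End.mul_apply, h1,
        ← Module.End.mul_apply, ← hcg.eq, Module.End.mul_apply]
  obtain ⟨lam, hlam⟩ : ∃ lam : F, ∀ k : K, T k = lam • k := by
    have hTp : T ^ p = algebraMap F _ (B.repr (T w) 0 ^ p) := by
      have hp3 : 3 ≤ p := by have := hpP.two_le; omega
      have e1 : Nn ^ p = 0 := pow_eq_zero_of_le hp3 hN3
      have e2 : (Nn ^ 2) ^ p = 0 := by rw [← pow_mul, mul_comm, pow_mul, e1, zero_pow (by norm_num)]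
      conv_lhs => rw [hTg]
      rw [← map_pow, hgd, add_pow_char, add_pow_char, mul_pow, mul_pow, map_add, map_add, map_mul, map_mul,
        map_pow, map_pow (aeval Nn) X, map_pow (aeval Nn) (X ^ 2), map_pow (aeval Nn) X, aeval_X, aeval_C, e1, e2,
        mul_zero, mul_zero, add_zero, add_zero, ← map_pow]
    have hTN' : T ^ N = 1 := by
      refine LinearMap.ext fun k => Subtype.ext ?_
      rw [Module.End.pow_restrict, LinearMap.restrict_apply]
      show (((S.1 : V →ₗ[F] V) : Module.End F V) ^ N) (k : V) = (k : V)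
      rw [← coe_pow_iso, ← hSord, pow_orderOf_eq_one]; rfl
    have hcop : Nat.Coprime p N := by
      refine (Nat.Prime.coprime_iff_not_dvd hpP).2 fun hd => ?_
      have := Nat.dvd_sub hd (hpq.trans (dvd_pow_self q (show m ≠ 0 by omega)))
      rw [hN, Nat.add_sub_cancel_left] at this
      exact hpP.ne_one (Nat.dvd_one.1 this)
    obtain ⟨k, -, hk⟩ := Nat.exists_mul_mod_eq_one_of_coprime hcop (by omega)
    refine ⟨(B.repr (T w) 0 ^ p) ^ k, fun y => ?_⟩
    have : T = T ^ (p * k) := by
      conv_rhs => rw [← Nat.div_add_mod (p * k) N, hk, pow_succ, pow_mul, hTN', one_pow, one_mul]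
    conv_lhs => rw [this]
    rw [pow_mul, hTp, ← map_pow, Module.algebraMap_end_apply]
  have hKS : ∀ k : K, S.1 (k : V) = lam • (k : V) := fun k => congrArg Subtype.val (hlam k)
  have hlam2 : lam * lam = 1 := by
    obtain ⟨k, hk⟩ : ∃ k : K, Q (k : V) ≠ 0 := by
      by_contra hcon
      push Not at hcon
      have hbot : K = ⊥ := (Submodule.eq_bot_iff _).2 fun k hk => hKnd k hk fun k' hk' => by
        rw [polar, hcon ⟨k + k', K.add_mem hk hk'⟩, hcon ⟨k, hk⟩, hcon ⟨k', hk'⟩]; simp
      rw [hbot, finrank_bot] at hKdim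
      omega
    have h := S.2 (k : V)
    rw [hKS, QuadraticMap.map_smul, smul_eq_mul] at h
    exact mul_right_cancel₀ hk (by rw [h, one_mul])
  have hSall : ∀ (k : K) c, S.1 (Φ (k, c)) = Φ (lam • k, e * c) := fun k c => by
    rw [hΦ, hΦ, map_add, hKS, hS1, Submodule.coe_smul]
  have hSk : ∀ (i : ℕ) (k : K) c, (S ^ i).1 (Φ (k, c)) = Φ (lam ^ i • k, e ^ i * c) := by
    intro i
    induction i with
    | zero => intro k c; simp
    | succ i ih =>
      intro k c
      rw [pow_succ']
      show S.1 ((S ^ i).1 (Φ (k, c))) = _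
      rw [ih, hSall, smul_smul, pow_succ', pow_succ' e, mul_assoc]
  have hSdvd : ∀ i, lam ^ i = 1 → e ^ i = 1 → N ∣ i := fun i h1 h2' => hSord ▸ orderOf_dvd_of_pow_eq_one
    (Subtype.ext (LinearEquiv.ext fun v => by
      obtain ⟨⟨k, c⟩, rfl⟩ := Φ.surjective v
      rw [hSk, h1, h2', one_smul, one_mul]; rfl))
  have he1 : e * σ e = 1 := by
    have h := hLnd (σ e * e - 1) fun d => by
      have hd : polar (formR Q Φ) (e * 1) (e * d) = polar (formR Q Φ) 1 d := by
        rw [hpol, hpol, ← hS1, ← hS1]; exact hpres S _ _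
      rw [hadj, ← mul_assoc] at hd
      have e1 := hadj (σ e * e) 1 d
      rw [mul_one] at e1
      rw [sub_eq_add_neg, polar_add_left, polar_neg_left, e1, map_mul σ, hfix, mul_comm e (σ e), hd, add_neg_cancel]
    rw [mul_comm, sub_eq_zero.1 h]
  rcases mul_self_eq_one_iff.1 hlam2 with hl | hl
  · -- fixed complement
    subst hl
    have hprim : IsPrimitiveRoot e N := by
      refine ⟨?_, fun l hl => hSdvd l (one_pow l) hl⟩
      rw [hN, pow_succ', ← hσ, he1]
    refine torus_sign_ne Q h2 hQ Φ hs σ hfix hσne hz hadj S e (fun k c => by rw [hSall, one_smul]) ?_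
      (congrArg Prod.snd hphiS)
    intro e' he'
    haveI : NeZero N := ⟨hN0.ne'⟩
    obtain ⟨j, -, hj⟩ := hprim.eq_pow_of_pow_eq_one (ξ := e') (by rw [hN, pow_succ', ← hσ, he'])
    exact ⟨j, hj⟩
  · subst hl
    have hene : e ≠ 1 := fun h => by
      have := Nat.le_of_dvd two_pos (hSdvd 2 (by ring) (by rw [h, one_pow]))
      omega
    have hbot : fixSpace Q S = ⊥ := by
      rw [Submodule.eq_bot_iff]
      intro v hv
      obtain ⟨⟨k, c⟩, rfl⟩ := Φ.surjective v
      rw [mem_fix, hSall] at hv
      obtain ⟨h1, h2'⟩ := Prod.ext_iff.1 (Φ.injective hv)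
      simp only at h1 h2'
      have hk : k = 0 := by
        have : (2 : F) • k = 0 := by
          rw [two_smul]
          nth_rewrite 1 [← h1]
          show (-1 : F) • k + k = 0
          rw [neg_one_smul, neg_add_cancel]
        exact (smul_eq_zero.1 this).resolve_left h2
      have hc0 : c = 0 := by
        have : (e - 1) * c = 0 := by rw [sub_mul, one_mul]; exact sub_eq_zero.2 h2'
        exact (mul_eq_zero.1 this).resolve_left (sub_ne_zero.2 hene)
      rw [hk, hc0]
      exact map_zero Φ
    have h := congrArg Prod.fst hphiS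
    change SpinorNorm.dickson Q S = 1 at h
    rw [SpinorNorm.dickson, hbot, finrank_bot, add_zero, hV, Odd.neg_one_pow ⟨m + 1, by ring⟩] at h
    exact absurd h (by decide)

end CfsgLib.OddSpectra
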